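import Cfsg.Agent.Lib.Trans3.Spider.Data.FP.F0

set_option autoImplicit false
set_option maxRecDepth 100000

namespace CfsgLib.Trans3.Spider.FP

open CfsgLib.InvChar.Coset

theorem facts_ok : ∀ j < 17, cert.chkRun 128 (j * 128) (cert.just.get j) = true := by
  intro j hj
  rcases Nat.lt_or_ge j 17 with h0 | h0
  · obtain ⟨i, rfl⟩ : ∃ i, j = 0 + i := ⟨j - 0, by omega⟩
    exact chkBlocks_get (D := cert) 17 0 chk_facts0 i (by omega)
  omega

/-- the goal word -/
def goal : List ℕ := [9]

theorem goal_ok : cert.chkGoal 2101 1 0x834 goal = true := by decide +kernel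

theorem nf_le : cert.nf ≤ 17 * 128 := by decide +kernel

end CfsgLib.Trans3.Spider.FP
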